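import Cfsg.Agent.Lib.Invol.Bender.Cor.Setup
import Cfsg.Agent.Lib.Grp.AmbivalentSolvable

/-!
# Bender's dichotomy and the core of a strongly embedded subgroup

Either the group is doubly transitive on the cosets, or the Sylow two-subgroups have one involution and the
subgroup covers the quotient by the odd core.  In both cases the odd core of the subgroup lies in that of the group.
-/

set_option autoImplicit false
set_option linter.unusedSectionVars false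

namespace Cfsg.Agent.Invol.Bender.Cor

open MulAction Subgroup

universe u

variable {G : Type u} [Group G] [Finite G]

theorem mk_eq_iff {H : Subgroup G} {h g₁ g₂ : G} :
    h • ((g₁ : G) : G ⧸ H) = ((g₂ : G) : G ⧸ H) ↔ g₂⁻¹ * (h * g₁) ∈ H := by
  rw [MulAction.Quotient.smul_mk, eq_comm, QuotientGroup.eq, smul_eq_mul]

theorem mk_ne_one {H : Subgroup G} {g : G} (hg : g ∉ H) : ((g : G) : G ⧸ H) ≠ ((1 : G) : G ⧸ H) := fun e => hg (by
  simpa using QuotientGroup.eq.1 e.symm)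

/-- Bender's dichotomy, from the theorem on split structures. -/
theorem s1220_of (hM : ∀ n, Below.{u} n) (H : Subgroup G) (hH : Cfsg.IsStronglyEmbedded H) :
    (∀ g₁ g₂ : G, g₁ ∉ H → g₂ ∉ H → ∃ h ∈ H, g₂⁻¹ * (h * g₁) ∈ H) ∨
      ((∀ S : Sylow 2 G, IsCyclic S ∨ ∃ m : ℕ, 1 ≤ m ∧ Nonempty ((S : Subgroup G) ≃* QuaternionGroup (2 ^ m))) ∧
        Cfsg.oddCore G ⊔ H = ⊤) := by
  have U := of_stronglyEmbedded hH
  by_cases hr : TwoRank (⊤ : Subgroup G)
  · left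
    intro g₁ g₂ h₁ h₂
    obtain ⟨Q, hQ⟩ := split_top hM U hr _ (cen_top U ((1 : G) : G ⧸ H))
    obtain ⟨q, hq, hqg⟩ := hQ.exists_move _ (cen_top U _) (mk_ne_one h₁) _ (cen_top U _) (mk_ne_one h₂)
    exact ⟨q, (stabilizer_quotient H).le (Subgroup.mem_inf.1 (hQ.le hq)).2, mk_eq_iff.1 hqg⟩
  · right
    have h1 := twoRankOne_of_not hr
    refine ⟨fun S => ?_, ?_⟩
    · refine (Grp.Ambivalent.cyclic_or_quaternion S.isPGroup' fun u v hu hv => Subtype.ext ?_).imp id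
        fun ⟨n, hn⟩ => ⟨n + 1, Nat.le_add_left 1 n, hn⟩
      exact BS.unique_of_isPGroup h1 S.isPGroup' u.2 v.2 (by rw [Subgroup.orderOf_coe, hu])
        (by rw [Subgroup.orderOf_coe, hv])
    · show Cfsg.pPrimeCore 2 G ⊔ H = ⊤
      rw [← core_sup_stabilizer U h1 ((1 : G) : G ⧸ H), stabilizer_quotient]

/-- A normal subgroup of odd order of a point stabiliser fixes every point, given a split structure. -/
theorem le_ker_of_odd_normal {Ω : Type*} [MulAction G Ω] (U : Hyp G Ω) (hS : Split Ω (⊤ : Subgroup G)) {c : Ω}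
    {A : Subgroup G} (hA : A ≤ stabilizer G c) (hn : ∀ h ∈ stabilizer G c, ∀ x ∈ A, h * x * h⁻¹ ∈ A)
    (hodd : Odd (Nat.card A)) : A ≤ ker Ω (⊤ : Subgroup G) := by
  obtain ⟨Q, hQ⟩ := hS c (cen_top U c)
  have hne := cen_top_nontrivial U
  obtain ⟨f, hf, hfc, hAf⟩ := U.exists_fix_centre hne hQ (le_inf le_top hA) hodd
  obtain ⟨K, hK⟩ : ∃ K, K = ker Ω (⊤ : Subgroup G) := ⟨_, rfl⟩
  haveI : K.Normal := hK ▸ normal_ker_top
  have hKQ : K ≤ Q := hK ▸ hQ.ker_le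
  obtain ⟨k, hk⟩ := hQ.two_index
  rw [← hK] at hk
  have hidx : (K.subgroupOf Q).index = 2 ^ k := by
    have h := (K.subgroupOf Q).card_mul_index
    rw [Nat.card_congr (subgroupOfEquivOfLe hKQ).toEquiv, hk] at h
    exact Nat.eq_of_mul_eq_mul_left Nat.card_pos h
  have hcomm : ∀ a ∈ A, ∀ q ∈ Q, a * q * a⁻¹ * q⁻¹ ∈ K := by
    intro a ha q hq
    have hqc : q ∈ stabilizer G c := (Subgroup.mem_inf.1 (hQ.le hq)).2
    have hxA : a * q * a⁻¹ * q⁻¹ ∈ A := by
      have := mul_mem ha (hn q hqc a⁻¹ (Subgroup.inv_mem _ ha))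
      simpa [mul_assoc] using this
    have hxQ : a * q * a⁻¹ * q⁻¹ ∈ Q :=
      mul_mem (hQ.conj_mem a ⟨mem_top a, hA ha⟩ q hq) (Subgroup.inv_mem _ hq)
    have hp : (⟨_, hxQ⟩ : Q) ^ 2 ^ k ∈ K.subgroupOf Q := hidx ▸ Subgroup.pow_index_mem _ _
    rw [Subgroup.mem_subgroupOf, SubmonoidClass.coe_pow] at hp
    obtain ⟨x, hx⟩ : ∃ x, x = a * q * a⁻¹ * q⁻¹ := ⟨_, rfl⟩
    change (a * q * a⁻¹ * q⁻¹) ^ 2 ^ k ∈ K at hp
    rw [← hx] at hp hxA ⊢
    obtain ⟨m, hm⟩ := exists_pow_eq_self_of_coprime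
      ((Nat.coprime_two_left.2 (hodd.of_dvd_nat (Subgroup.orderOf_dvd_natCard _ hxA))).pow_left k)
    exact hm ▸ pow_mem hp m
  intro a ha
  rw [mem_ker_top U]
  intro e
  rcases eq_or_ne e c with rfl | hec
  · exact mem_stabilizer_iff.1 (hA ha)
  obtain ⟨q, hq, hqf⟩ := hQ.exists_move f hf hfc e (cen_top U e) hec
  calc a • e = (a * q * a⁻¹ * q⁻¹) • (q • (a • f)) := by
        rw [← hqf, ← mul_smul, ← mul_smul, ← mul_smul]
        congr 1
        group
    _ = (a * q * a⁻¹ * q⁻¹) • e := by rw [mem_stabilizer_iff.1 (hAf ha), hqf]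
    _ = e := (mem_ker_top U).1 (hK ▸ hcomm a ha q hq) e

/-- The odd core of a strongly embedded subgroup lies in the odd core of the group. -/
theorem s1221_of (hM : ∀ n, Below.{u} n) (H : Subgroup G) (hH : Cfsg.IsStronglyEmbedded H) :
    (Cfsg.oddCore ↥H).map H.subtype ≤ Cfsg.oddCore G := by
  have U := of_stronglyEmbedded hH
  obtain ⟨A, hA⟩ : ∃ A, A = (Cfsg.pPrimeCore 2 ↥H).map H.subtype := ⟨_, rfl⟩
  show (Cfsg.pPrimeCore 2 ↥H).map H.subtype ≤ Cfsg.pPrimeCore 2 G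
  have hAH : A ≤ H := hA ▸ Subgroup.map_subtype_le _
  have hAodd : (Nat.card A).Coprime 2 := by
    rw [hA, Subgroup.card_subtype]
    exact Grp.pPrimeCore_coprime
  have hn : ∀ h ∈ H, ∀ x ∈ A, h * x * h⁻¹ ∈ A := by
    rintro h hh x hx
    rw [hA] at hx ⊢
    obtain ⟨x, hx, rfl⟩ := hx
    exact ⟨⟨h, hh⟩ * x * ⟨h, hh⟩⁻¹, Grp.pPrimeCore_isNormal.conj_mem x hx _, rfl⟩
  rw [← hA]
  have hst : stabilizer G ((1 : G) : G ⧸ H) = H := stabilizer_quotient H
  by_cases hr : TwoRank (⊤ : Subgroup G)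
  · exact (le_ker_of_odd_normal U (split_top hM U hr) (hst.symm ▸ hAH) (fun h hh => hn h (hst ▸ hh))
      (BS.odd_iff_coprime_two.2 hAodd)).trans (ker_top_le_oddCore U)
  · have hsup := core_sup_stabilizer U (twoRankOne_of_not hr) ((1 : G) : G ⧸ H)
    rw [hst] at hsup
    obtain ⟨O, hO⟩ : ∃ O, O = Cfsg.pPrimeCore 2 G := ⟨_, rfl⟩
    haveI : O.Normal := hO ▸ Grp.pPrimeCore_isNormal
    rw [← hO] at hsup ⊢
    have hNH : H ≤ Subgroup.normalizer ((A ⊔ O : Subgroup G) : Set G) := fun h hh =>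
      Subgroup.mem_normalizer_fintype fun x hx => by
        obtain ⟨a, ha, o, ho, rfl⟩ := Subgroup.mem_sup_of_normal_right.1 hx
        rw [show h * (a * o) * h⁻¹ = (h * a * h⁻¹) * (h * o * h⁻¹) by group]
        exact mul_mem_sup (hn h hh a ha) ((inferInstance : O.Normal).conj_mem o ho h)
    have hnorm : (A ⊔ O).Normal := by
      rw [← Subgroup.normalizer_eq_top_iff, eq_top_iff, ← hsup]
      exact sup_le (le_sup_right.trans Subgroup.le_normalizer) hNH
    have hle : A ⊔ O ≤ Cfsg.pPrimeCore 2 G := Grp.le_pPrimeCore hnorm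
      (Grp.card_sup_coprime_to (by rw [Subgroup.normalizer_eq_top]; exact le_top) hAodd
        (hO ▸ Grp.pPrimeCore_coprime))
    exact hO ▸ le_sup_left.trans hle

end Cfsg.Agent.Invol.Bender.Cor
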