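import Cfsg.Agent.Lib.Invol.Bender.Cor.Setup
import Cfsg.Agent.Lib.Transfer.RankOne.Main
import Cfsg.Agent.Lib.Transfer.RankOneCor.Basic

/-!
# Bender's theorem for simple groups

A non-abelian simple group has two commuting involutions, so its action on the cosets of a strongly embedded
subgroup is a rank one set-up, and those are classified.
-/

set_option autoImplicit false
set_option linter.unusedSectionVars false

namespace Cfsg.Agent.Invol.Bender.Cor

open MulAction Subgroup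

universe u

/-- A finite field with `2 ^ n` elements has characteristic two. -/
theorem charP_two_of_card {F : Type} [Field F] [Fintype F] {n : ℕ} (h : Fintype.card F = 2 ^ n) : CharP F 2 := by
  haveI : Fact (Nat.Prime 2) := ⟨Nat.prime_two⟩
  have h2 : ((2 ^ n : ℕ) : F) = 0 := by rw [← h]; exact Nat.cast_card_eq_zero F
  rw [Nat.cast_pow] at h2
  have h3 : (2 : F) = 0 := by exact_mod_cast eq_zero_of_pow_eq_zero h2
  exact CharTwo.of_one_ne_zero_of_two_eq_zero one_ne_zero h3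

theorem four_le_two_pow {n : ℕ} (h : 2 ≤ n) : 4 ≤ 2 ^ n :=
  calc 4 = 2 ^ 2 := rfl
    _ ≤ 2 ^ n := Nat.pow_le_pow_right (by norm_num) h

theorem s0222_of (hM : ∀ n, Below.{u} n) {G : Type u} [Group G] [Finite G] [IsSimpleGroup G]
    (hna : ∃ a b : G, a * b ≠ b * a) (H : Subgroup G) (hH : Cfsg.IsStronglyEmbedded H) :
    (∃ (F : Type) (_ : Field F) (_ : Fintype F), CharP F 2 ∧ 4 ≤ Fintype.card F ∧
        Nonempty (G ≃* Matrix.ProjectiveSpecialLinearGroup (Fin 2) F)) ∨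
      Cfsg.IsSuzuki G ∨
      (∃ (F : Type) (_ : Field F) (_ : Fintype F) (q : ℕ), Fintype.card F = q ^ 2 ∧ Even q ∧ 4 ≤ q ∧
        Nonempty (G ≃* Cfsg.PSU 3 F q)) := by
  have U := of_stronglyEmbedded hH
  haveI : FaithfulSMul G (G ⧸ H) := ⟨fun {g₁ g₂} h => by
    have h0 : g₂⁻¹ * g₁ ∈ ker (G ⧸ H) (⊤ : Subgroup G) :=
      (mem_ker_top U).2 fun x => by rw [mul_smul, h x, inv_smul_smul]
    haveI : (ker (G ⧸ H) (⊤ : Subgroup G)).Normal := normal_ker_top
    rcases (inferInstance : (ker (G ⧸ H) (⊤ : Subgroup G)).Normal).eq_bot_or_eq_top with h1 | h1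
    · rw [h1, Subgroup.mem_bot, inv_mul_eq_one] at h0
      exact h0.symm
    · exfalso
      refine hH.1 (eq_top_iff.2 fun g _ => ?_)
      have h2 := (mem_ker_top U).1 (h1.symm ▸ mem_top g) ((1 : G) : G ⧸ H)
      exact (stabilizer_quotient H).le (mem_stabilizer_iff.2 h2)⟩
  have heven : Even (Nat.card G) :=
    even_iff_two_dvd.2 ((even_iff_two_dvd.1 hH.2.1).trans (Subgroup.card_subgroup_dvd_card H))
  obtain ⟨x, y, hx1, hy1, hxy, hx, hy, hcm⟩ := Transfer.RankOneCor.exists_commuting hna heven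
  have hr : TwoRank (⊤ : Subgroup G) :=
    ⟨x, mem_top x, y, mem_top y, orderOf_two_iff.2 ⟨hx, hx1⟩, orderOf_two_iff.2 ⟨hy, hy1⟩, hxy, hcm⟩
  obtain ⟨a, b, hab⟩ := U.nontrivial.exists_pair_ne
  obtain ⟨v, hv⟩ := U.exists_swap_pair hab
  obtain ⟨Q, R⟩ := exists_rankOne U hr (split_top hM U hr) hab hv
  rcases Transfer.RankOneCor.simple_form (fun hS h2 => Transfer.RankOne.classification ⟨hS, h2⟩) R.setup R.two with
    ⟨F, iF, iFF, n, hn, hq, he⟩ | h | ⟨F, iF, iFF, n, hn, hq, he⟩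
  · exact Or.inl ⟨F, iF, iFF, charP_two_of_card hq, hq ▸ four_le_two_pow hn, he⟩
  · exact Or.inr (Or.inl h)
  · exact Or.inr (Or.inr ⟨F, iF, iFF, 2 ^ n, hq, even_iff_two_dvd.2 (dvd_pow_self 2 (by omega)),
      four_le_two_pow hn, he⟩)

end Cfsg.Agent.Invol.Bender.Cor
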