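import Cfsg.Prelude.Def_Amalgam
import Cfsg.Prelude.Def_EvenType
import Cfsg.Agent.Lib.Invol.Bender.Cor.Core
import Cfsg.Agent.Lib.Invol.Bender.Cor.Simple
import Cfsg.Agent.Lib.Invol.SPEBasics

/-!
# Bender's theorem in structural form

With two commuting involutions the odd core is the kernel of the action, the image is a rank one group, and the
subgroup generated by its elements of two-power order is the simple group generated by its involutions.
-/

set_option autoImplicit false
set_option linter.unusedSectionVars false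

namespace Cfsg.Agent.Invol.Bender.Cor

open MulAction Subgroup

universe u

variable {G Ω : Type u} [Group G] [Finite G] [MulAction G Ω]

/-- A normal subgroup of odd order fixes every point. -/
theorem odd_normal_le_ker (U : Hyp G Ω) (hr : TwoRank (⊤ : Subgroup G)) (hS : Split Ω (⊤ : Subgroup G))
    [FaithfulSMul G Ω] {N : Subgroup G} (hN : N.Normal) (hodd : Odd (Nat.card N)) : N = ⊥ := by
  obtain ⟨x, -, y, -, hx, hy, hxy, hcm⟩ := hr
  have hfree : ∀ n ∈ N, ∀ c : Ω, n • c = c → n = 1 := by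
    intro n hn c hc
    have hle : N ⊓ stabilizer G c ≤ ker Ω (⊤ : Subgroup G) :=
      le_ker_of_odd_normal U hS inf_le_right
        (fun h hh m hm => ⟨hN.conj_mem m hm.1 h, mul_mem (mul_mem hh hm.2) (Subgroup.inv_mem _ hh)⟩)
        (hodd.of_dvd_nat (Subgroup.card_dvd_of_le inf_le_left))
    refine FaithfulSMul.eq_of_smul_eq_smul (α := Ω) fun e => ?_
    rw [(mem_ker_top U).1 (hle ⟨hn, hc⟩) e, one_smul]
  -- an involution inverts the subgroup
  have hinv : ∀ i : G, orderOf i = 2 → ∀ n ∈ N, i * n * i⁻¹ = n⁻¹ := by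
    intro i hi n hn
    obtain ⟨d, hd⟩ := U.exists_fix i hi
    let f : N →* N :=
      { toFun := fun m => ⟨i * m * i⁻¹, hN.conj_mem m m.2 i⟩
        map_one' := Subtype.ext (by simp)
        map_mul' := fun a b => Subtype.ext (by simp [mul_assoc]) }
    have hf : MonoidHom.FixedPointFree f := fun m hm => by
      have hm' : i * (m : G) * i⁻¹ = m := congrArg Subtype.val hm
      exact Subtype.ext (hfree m m.2 d (U.fix_of_commute hi hd (mul_inv_eq_iff_eq_mul.1 hm').symm))
    have hff : Function.Involutive f := fun m => Subtype.ext (by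
      show i * (i * (m : G) * i⁻¹) * i⁻¹ = m
      rw [inv_of_orderOf_two hi]
      calc i * (i * (m : G) * i) * i = i * i * m * (i * i) := by group
        _ = m := by rw [mul_self_of_orderOf_two hi, one_mul, mul_one])
    exact congrArg Subtype.val (congrFun (MonoidHom.FixedPointFree.coe_eq_inv_of_involutive hf hff) ⟨n, hn⟩)
  refine (Subgroup.eq_bot_iff_forall N).2 fun n hn => ?_
  -- the product of two commuting involutions inverts and centralises
  have h2 : orderOf (x * y) = 2 := orderOf_two_iff.2 ⟨by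
    calc x * y * (x * y) = x * (y * x) * y := by group
      _ = x * (x * y) * y := by rw [← hcm.eq]
      _ = (x * x) * (y * y) := by group
      _ = 1 := by rw [mul_self_of_orderOf_two hx, mul_self_of_orderOf_two hy, one_mul], mul_ne_one_of_ne hx hxy⟩
  have h3 : x * y * n * (x * y)⁻¹ = n := by
    calc x * y * n * (x * y)⁻¹ = x * (y * n * y⁻¹) * x⁻¹ := by group
      _ = (x * n * x⁻¹)⁻¹ := by rw [hinv y hy n hn]; group
      _ = n := by rw [hinv x hx n hn, inv_inv]
  have h4 : n * n = 1 := by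
    have := hinv _ h2 n hn
    rw [h3] at this
    exact mul_eq_one_iff_eq_inv.2 this
  obtain ⟨k, hk⟩ := hodd.of_dvd_nat (Subgroup.orderOf_dvd_natCard N hn)
  have h5 : n ^ (2 * k + 1) = 1 := by rw [← hk, pow_orderOf_eq_one]
  rwa [pow_succ, pow_mul, pow_two, h4, one_pow, one_mul] at h5

/-- The kernel of the action is the odd core. -/
theorem ker_toImage (hM : ∀ n, Below.{u} n) (U : Hyp G Ω) (hr : TwoRank (⊤ : Subgroup G)) :
    (toImage G Ω).ker = Cfsg.pPrimeCore 2 G := by
  refine le_antisymm (fun g hg => ker_top_le_oddCore U ((mem_ker_top U).2 (toImage_eq_one.1 hg))) fun g hg => ?_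
  haveI hn : ((Cfsg.pPrimeCore 2 G).map (toImage G Ω)).Normal :=
    Subgroup.Normal.map Grp.pPrimeCore_isNormal _ toImage_surjective
  have h := odd_normal_le_ker U.image (twoRank_image U hr) (split_top hM U.image (twoRank_image U hr)) hn
    (BS.odd_iff_coprime_two.2 (Grp.pPrimeCore_coprime.coprime_dvd_left (Subgroup.card_map_dvd _ _)))
  exact MonoidHom.mem_ker.2 (Subgroup.mem_bot.1 (h ▸ Subgroup.mem_map_of_mem _ hg))

/-- The elements of two-power order generate the same subgroup as the involutions, given odd index. -/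
theorem closure_equiv {X : Type u} {Y : Type u} [Group X] [Group Y] [Finite Y] (φ : X ≃* Y)
    (hodd : Odd (Transfer.RankOne.invGen Y).index) :
    Nonempty (↥(Cfsg.pElementClosure 2 (⊤ : Subgroup X)) ≃* ↥(Transfer.RankOne.invGen Y)) := by
  have h : (Cfsg.pElementClosure 2 (⊤ : Subgroup X)).map φ.toMonoidHom = Transfer.RankOne.invGen Y := by
    refine le_antisymm (Subgroup.map_le_iff_le_comap.2 ((Subgroup.closure_le _).2 ?_)) ((Subgroup.closure_le _).2 ?_)
    · rintro x ⟨-, k, hk⟩
      haveI := Transfer.RankOne.invGen_normal Y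
      show φ x ∈ Transfer.RankOne.invGen Y
      rw [← QuotientGroup.eq_one_iff, ← orderOf_eq_one_iff]
      have hc : (Transfer.RankOne.invGen Y).index.Coprime (2 ^ k) := (Nat.coprime_two_right.2 hodd).pow_right k
      refine Nat.eq_one_of_dvd_coprimes hc ?_ ?_
      · exact orderOf_dvd_natCard _
      · refine (orderOf_map_dvd (QuotientGroup.mk' _) (φ x)).trans (dvd_of_eq ?_)
        rw [MulEquiv.orderOf_eq, hk]
    · rintro y ⟨hy1, hy⟩
      refine ⟨φ.symm y, Subgroup.subset_closure ⟨mem_top _, 1, ?_⟩, φ.apply_symm_apply y⟩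
      rw [MulEquiv.orderOf_eq, pow_one]
      exact orderOf_two_iff.2 ⟨hy, hy1⟩
  exact ⟨(Subgroup.equivMapOfInjective _ φ.toMonoidHom φ.injective).trans (MulEquiv.subgroupCongr h)⟩

/-- Bender's theorem in structural form. -/
theorem s2798_of (hM : ∀ n, Below.{u} n) {H : Type u} [Group H] [Finite H] (X : Subgroup H)
    (hX : Cfsg.IsStronglyPEmbedded 2 X) :
    (∀ t : H, orderOf t = 2 → Cfsg.pPrimeCore 2 H ⊔ Subgroup.centralizer ({t} : Set H) = ⊤ ∧
        ∀ u ∈ Subgroup.centralizer ({t} : Set H), orderOf u = 2 → u = t) ∨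
      (∃ (F : Type) (_ : Field F) (_ : Fintype F), CharP F 2 ∧ 4 ≤ Fintype.card F ∧
        Nonempty (↥(Cfsg.pElementClosure 2 (⊤ : Subgroup (H ⧸ Cfsg.pPrimeCore 2 H))) ≃*
          Matrix.SpecialLinearGroup (Fin 2) F)) ∨
      (∃ (F : Type) (_ : Field F) (_ : Fintype F) (q : ℕ), Even q ∧ 4 ≤ q ∧ Fintype.card F = q ^ 2 ∧
        Nonempty (↥(Cfsg.pElementClosure 2 (⊤ : Subgroup (H ⧸ Cfsg.pPrimeCore 2 H))) ≃* Cfsg.PSU 3 F q)) ∨
      Cfsg.Lie.IsoSuzuki ↥(Cfsg.pElementClosure 2 (⊤ : Subgroup (H ⧸ Cfsg.pPrimeCore 2 H))) := by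
  by_cases hr : TwoRank (⊤ : Subgroup H)
  swap
  · left
    intro t ht
    have h1 := twoRankOne_of_not hr
    exact ⟨core_sup_centralizer h1 ht,
      fun u hu hu2 => h1 u t hu2 ht (Subgroup.mem_centralizer_singleton_iff.1 hu)⟩
  right
  haveI : Fact (Nat.Prime 2) := ⟨Nat.prime_two⟩
  obtain ⟨hd, hne, hcl⟩ := Invol.isStronglyPEmbedded_iff.1 hX
  have hse : Cfsg.IsStronglyEmbedded X :=
    ⟨hne, even_iff_two_dvd.2 hd, fun g hg => Nat.not_even_iff_odd.1 fun he => hcl g hg (even_iff_two_dvd.1 he)⟩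
  have U := of_stronglyEmbedded hse
  have U' := U.image
  have hr' := twoRank_image U hr
  obtain ⟨a, b, hab⟩ := U'.nontrivial.exists_pair_ne
  obtain ⟨v, hv⟩ := U'.exists_swap_pair hab
  obtain ⟨Q, R⟩ := exists_rankOne U' hr' (split_top hM U' hr') hab hv
  haveI := Transfer.RankOne.invGen_simple R
  obtain ⟨e₀⟩ := closure_equiv ((QuotientGroup.quotientMulEquivOfEq (ker_toImage hM U hr).symm).trans
    (QuotientGroup.quotientKerEquivOfSurjective (toImage H (H ⧸ X)) toImage_surjective))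
    (Transfer.RankOne.odd_index_invGen R)
  rcases Transfer.RankOne.simple_classification (Transfer.RankOne.invGen_hyp R) with
    ⟨F, iF, iFF, ⟨n, hn, hq⟩, ⟨e⟩⟩ | h | ⟨F, iF, iFF, n, hn, hq, ⟨e⟩⟩
  · haveI := charP_two_of_card hq
    refine Or.inl ⟨F, iF, iFF, inferInstance, hq ▸ four_le_two_pow hn, ⟨?_⟩⟩
    exact (e₀.trans e).trans ((QuotientGroup.quotientMulEquivOfEq
      (Fus.CTSimple.center_eq_bot_of_two (F := F) (CharTwo.two_eq_zero))).trans QuotientGroup.quotientBot)
  · obtain ⟨F, iF, iFF, m, hm, hq, ⟨e⟩⟩ := h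
    exact Or.inr (Or.inr ⟨F, iF, iFF, m, hm, hq, ⟨e₀.trans e⟩⟩)
  · exact Or.inr (Or.inl ⟨F, iF, iFF, 2 ^ n, even_iff_two_dvd.2 (dvd_pow_self 2 (by omega)), four_le_two_pow hn,
      hq, ⟨e₀.trans e⟩⟩)

end Cfsg.Agent.Invol.Bender.Cor
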