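import Cfsg.Prelude.Def_Solvable
import Cfsg.Agent.Lib.Invol.Bender.RankOneBridge
import Cfsg.Agent.Lib.Invol.BrauerSuzuki

/-!
# The two cases of Bender's dichotomy

With two commuting involutions the group has a split structure on the cosets, its kernel lies in the odd core.
Without them every involution is central modulo the odd core, so the centraliser of any involution covers the
quotient by the odd core.
-/

set_option autoImplicit false
set_option linter.unusedSectionVars false

namespace Cfsg.Agent.Invol.Bender.Cor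

open MulAction Subgroup

universe u

section Split

variable {G Ω : Type u} [Group G] [Finite G] [MulAction G Ω]

/-- The theorem for all orders, applied to the whole group. -/
theorem split_top (hM : ∀ n, Below.{u} n) (U : Hyp G Ω) (hr : TwoRank (⊤ : Subgroup G)) :
    Split Ω (⊤ : Subgroup G) :=
  hM (Nat.card G + 1) G Ω (Nat.lt_succ_self _) U hr

end Split

variable {G : Type u} [Group G]

theorem twoRankOne_of_not (h : ¬ TwoRank (⊤ : Subgroup G)) : BS.TwoRankOne G := fun u v hu hv huv => by
  by_contra hne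
  exact h ⟨u, mem_top u, v, mem_top v, hu, hv, hne, huv⟩

theorem normal_ker_top {Ω : Type*} [MulAction G Ω] : (ker Ω (⊤ : Subgroup G)).Normal :=
  ⟨fun _ hk g => ker_conj_mem (mem_top g) hk⟩

/-- A conjugate by a power of the product, for two involutions with a product of odd order. -/
theorem exists_conj_of_odd {s a : G} (hs : orderOf s = 2) (ha : orderOf a = 2) (h : Odd (orderOf (s * a))) :
    ∃ k ∈ Subgroup.zpowers (s * a), k * s * k⁻¹ = a := by
  obtain ⟨n, hn⟩ := h
  refine ⟨(s * a) ^ (n : ℤ), Subgroup.zpow_mem_zpowers _ _, ?_⟩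
  rw [← zpow_neg, mul_assoc, mul_zpow_comm hs ha, neg_neg, ← mul_assoc, ← zpow_add]
  have h1 : (s * a) ^ ((n : ℤ) + n) = (s * a)⁻¹ := by
    rw [eq_inv_iff_mul_eq_one, ← zpow_add_one, show (n : ℤ) + n + 1 = ((2 * n + 1 : ℕ) : ℤ) by push_cast; ring,
      zpow_natCast, ← hn, pow_orderOf_eq_one]
  rw [h1, _root_.mul_inv_rev, mul_assoc, inv_mul_cancel, mul_one, inv_of_orderOf_two ha]

variable [Finite G]

theorem ker_top_le_oddCore {Ω : Type*} [MulAction G Ω] (U : Hyp G Ω) :
    ker Ω (⊤ : Subgroup G) ≤ Cfsg.pPrimeCore 2 G :=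
  Grp.le_pPrimeCore normal_ker_top (BS.odd_iff_coprime_two.1 (U.odd_ker (cen_top_nontrivial U)))

section RankOne

/-- Without commuting involutions the centraliser of an involution covers the quotient by the odd core. -/
theorem core_sup_centralizer (h : BS.TwoRankOne G) {z : G} (hz : orderOf z = 2) :
    Cfsg.pPrimeCore 2 G ⊔ Subgroup.centralizer ({z} : Set G) = ⊤ := by
  refine eq_top_iff.2 fun g _ => ?_
  obtain ⟨w, hw⟩ : ∃ w, w = g * z * g⁻¹ := ⟨_, rfl⟩
  have hw2 : orderOf w = 2 := hw ▸ (orderOf_conj_eq g z).trans hz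
  have hzw : z * w ∈ Cfsg.pPrimeCore 2 G := by
    have := BS.commutator_mem_oddCore _ G rfl h z hz g
    rwa [inv_of_orderOf_two hz, show z * g * z * g⁻¹ = z * (g * z * g⁻¹) by group, ← hw] at this
  obtain ⟨k, hk, hkz⟩ := exists_conj_of_odd hz hw2 (BS.odd_orderOf_mul h hz hw2)
  have hc : k⁻¹ * g ∈ Subgroup.centralizer ({z} : Set G) := by
    rw [Subgroup.mem_centralizer_singleton_iff]
    calc k⁻¹ * g * z = k⁻¹ * (g * z * g⁻¹) * g := by group
      _ = k⁻¹ * (k * z * k⁻¹) * g := by rw [← hw, hkz]
      _ = z * (k⁻¹ * g) := by group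
  have := mul_mem (mem_sup_left (T := Subgroup.centralizer ({z} : Set G)) (Subgroup.zpowers_le.2 hzw hk))
    (mem_sup_right (S := Cfsg.pPrimeCore 2 G) hc)
  rwa [mul_inv_cancel_left] at this

/-- Without commuting involutions a point stabiliser covers the quotient by the odd core. -/
theorem core_sup_stabilizer {Ω : Type*} [MulAction G Ω] (U : Hyp G Ω) (h : BS.TwoRankOne G) (x : Ω) :
    Cfsg.pPrimeCore 2 G ⊔ stabilizer G x = ⊤ := by
  obtain ⟨t, ht, htx⟩ := U.invol_at x
  refine eq_top_iff.2 ((core_sup_centralizer h ht).ge.trans (sup_le_sup_left (fun g hg => ?_) _))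
  exact mem_stabilizer_iff.2 (U.fix_of_commute ht htx (Subgroup.mem_centralizer_singleton_iff.1 hg))

end RankOne

end Cfsg.Agent.Invol.Bender.Cor
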