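import Cfsg.Agent.Lib.Invol.Bender.Cor.Core

/-!
# Elements of a pair stabiliser inverted by a swapper

Such an element, if nontrivial, has a centraliser of odd order: an involution centralising it has a product of even
order with the swapper, so both fix one point, which would be a third fixed point of the element.
-/

set_option autoImplicit false
set_option linter.unusedSectionVars false

namespace Cfsg.Agent.Invol.Bender.Cor

open MulAction Subgroup

universe u

variable {G Ω : Type u} [Group G] [Finite G] [MulAction G Ω]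

/-- An inverted nontrivial element of odd order is not inverted and centralised by conjugate involutions. -/
theorem not_odd_product {i v j : G} (hi : orderOf i = 2) (hv : orderOf v = 2) (hj : Odd (orderOf j)) (hj1 : j ≠ 1)
    (hc : Commute i j) (hinv : v * j * v⁻¹ = j⁻¹) : ¬ Odd (orderOf (i * v)) := by
  intro hodd
  obtain ⟨k, hk, hkv⟩ := exists_conj_of_odd hi hv hodd
  let M : Subgroup G :=
    { carrier := {g | g * j * g⁻¹ = j ∨ g * j * g⁻¹ = j⁻¹}
      one_mem' := Or.inl (by group)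
      mul_mem' := fun {a b} ha hb => by
        have e : a * b * j * (a * b)⁻¹ = a * (b * j * b⁻¹) * a⁻¹ := by group
        have e' : a * j⁻¹ * a⁻¹ = (a * j * a⁻¹)⁻¹ := by group
        rcases ha with ha | ha <;> rcases hb with hb | hb
        · exact Or.inl (by rw [e, hb, ha])
        · exact Or.inr (by rw [e, hb, e', ha])
        · exact Or.inr (by rw [e, hb, ha])
        · exact Or.inl (by rw [e, hb, e', ha, inv_inv])
      inv_mem' := fun {a} ha => by
        rcases ha with ha | ha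
        · refine Or.inl ?_
          conv_lhs => rw [← ha]
          group
        · refine Or.inr ?_
          have e' : j⁻¹ = (a * j * a⁻¹) := ha.symm
          have e'' : a⁻¹ * (a * j * a⁻¹)⁻¹ * a⁻¹⁻¹ = j⁻¹ := by group
          rw [← e', inv_inv] at e''
          exact e'' }
  have hiM : i ∈ M := Or.inl (by rw [hc.eq, mul_inv_cancel_right])
  have hvM : v ∈ M := Or.inr hinv
  have hkM : k ∈ M := Subgroup.zpowers_le.2 (mul_mem hiM hvM) hk
  have hvj : v * j * v⁻¹ = j := by
    have hi' : ∀ x : G, (x = j ∨ x = j⁻¹) → i * x * i⁻¹ = x := by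
      rintro x (rfl | rfl)
      · rw [hc.eq, mul_inv_cancel_right]
      · rw [hc.inv_right.eq, mul_inv_cancel_right]
    have h1 := hi' _ (M.inv_mem hkM)
    rw [inv_inv] at h1
    calc v * j * v⁻¹ = k * (i * (k⁻¹ * j * k) * i⁻¹) * k⁻¹ := by rw [← hkv]; group
      _ = j := by rw [h1]; group
  rw [hvj] at hinv
  have h2 : orderOf j ∣ 2 := orderOf_dvd_of_pow_eq_one (by rw [pow_two]; exact mul_eq_one_iff_eq_inv.2 hinv)
  rcases (Nat.dvd_prime Nat.prime_two).1 h2 with h | h
  · exact hj1 (orderOf_eq_one_iff.1 h)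
  · rw [h] at hj
    exact absurd hj (by decide)

/-- In a split faithful action a nontrivial inverted element of a pair stabiliser fixes only the pair. -/
theorem fix_only [FaithfulSMul G Ω] (U : Hyp G Ω) (hr : TwoRank (⊤ : Subgroup G)) (hS : Split Ω (⊤ : Subgroup G))
    {c a : Ω} (hca : c ≠ a) {v : G} (hv : v ∈ swapAt G c a) {j : G} (hj : j ∈ pairStab G c a)
    (hinv : v * j * v⁻¹ = j⁻¹) (hj1 : j ≠ 1) {x : Ω} (hx : j • x = x) : x = c ∨ x = a := by
  obtain ⟨Q, R⟩ := exists_rankOne U hr hS hca hv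
  by_contra hne
  push Not at hne
  have hb : v • c = a := hv.2
  obtain ⟨q, hq, hqx⟩ := Lie.RankOne.exists_q R.setup hne.1
  rw [hb] at hqx
  have hq' : j * q * j⁻¹ ∈ Q := R.setup.conj_mem j (mem_stabilizer_iff.2 (mem_pair.1 hj).1) q hq
  have he : j * q * j⁻¹ = q := by
    refine Lie.RankOne.q_unique R.setup hq' hq ?_
    rw [hb, mul_smul, mul_smul, inv_smul_eq_iff.2 (mem_pair.1 hj).2.symm, hqx, hx]
  have h1 := Lie.RankOne.inverted_fpf R.setup (x := j) ⟨hb.symm ▸ hj, hinv⟩ hj1
  have hq1 : q = 1 := (Subgroup.eq_bot_iff_forall _).1 h1 q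
    ⟨hq, Subgroup.mem_centralizer_singleton_iff.2 (mul_inv_eq_iff_eq_mul.1 he).symm⟩
  rw [hq1, one_smul] at hqx
  exact hne.2 hqx.symm

/-- An inverted element of a pair stabiliser centralises no involution. -/
theorem no_invol_commute (hM : ∀ n, Below.{u} n) [FaithfulSMul G Ω] (U : Hyp G Ω) {c a : Ω} (hca : c ≠ a) {v : G}
    (hv : v ∈ swapAt G c a) {j : G} (hj : j ∈ pairStab G c a) (hinv : v * j * v⁻¹ = j⁻¹) (hj1 : j ≠ 1) {i : G}
    (hi : orderOf i = 2) : ¬ Commute i j := by
  intro hc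
  have hjo : Odd (orderOf j) := (U.odd_pair hca).of_dvd_nat (Subgroup.orderOf_dvd_natCard _ hj)
  refine not_odd_product hi hv.1 hjo hj1 hc hinv ?_
  by_cases hr : TwoRank (⊤ : Subgroup G)
  · obtain ⟨x, hx⟩ := U.exists_fix i hi
    obtain ⟨p, hp⟩ := U.exists_fix v hv.1
    refine U.odd_product hi hv.1 hx hp fun hxp => ?_
    subst hxp
    rcases fix_only U hr (split_top hM U hr) hca hv hj hinv hj1 (U.fix_of_commute hi hx hc.symm) with rfl | rfl
    · exact hca (hp.symm.trans hv.2)
    · exact hca ((swap_symm hv.1 hv.2).symm.trans hp)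
  · exact BS.odd_orderOf_mul (twoRankOne_of_not hr) hi hv.1

/-- The centraliser of an inverted element of a two point stabiliser has odd order. -/
theorem s1223_of (hM : ∀ n, Below.{u} n) {G : Type u} [Group G] [Finite G] (H : Subgroup G)
    (hH : Cfsg.IsStronglyEmbedded H) (hcore : H.normalCore = ⊥) (u : G) (hu : orderOf u = 2) (huH : u ∉ H) (j : G)
    (hj : j ∈ (H ⊓ H.map (MulAut.conj u).toMonoidHom)) (hj1 : j ≠ 1) (hinv : u * j * u⁻¹ = j⁻¹) :
    Odd (Nat.card (Subgroup.centralizer ({j} : Set G))) := by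
  have U := of_stronglyEmbedded hH
  haveI : FaithfulSMul G (G ⧸ H) := ⟨fun {g₁ g₂} h => by
    have h1 : g₂⁻¹ * g₁ ∈ H.normalCore := fun b => by
      have h2 := h ((b⁻¹ : G) : G ⧸ H)
      rw [MulAction.Quotient.smul_mk, MulAction.Quotient.smul_mk, eq_comm, QuotientGroup.eq, smul_eq_mul,
        smul_eq_mul] at h2
      rwa [show (g₂ * b⁻¹)⁻¹ * (g₁ * b⁻¹) = b * (g₂⁻¹ * g₁) * b⁻¹ by group] at h2
    rw [hcore, Subgroup.mem_bot, inv_mul_eq_one] at h1
    exact h1.symm⟩
  obtain ⟨c, hc⟩ : ∃ c : G ⧸ H, c = ((1 : G) : G ⧸ H) := ⟨_, rfl⟩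
  have hst : stabilizer G c = H := hc ▸ stabilizer_quotient H
  have hne : c ≠ u • c := fun e => huH (hst ▸ mem_stabilizer_iff.2 e.symm)
  have hjp : j ∈ pairStab G c (u • c) := by
    refine ⟨hst.symm ▸ hj.1, ?_⟩
    show j ∈ stabilizer G (u • c)
    rw [stabilizer_smul_eq_stabilizer_map_conj, hst]
    exact hj.2
  by_contra h
  haveI : Fact (Nat.Prime 2) := ⟨Nat.prime_two⟩
  obtain ⟨i, hi⟩ := exists_prime_orderOf_dvd_card' (G := Subgroup.centralizer ({j} : Set G)) 2
    (Nat.not_odd_iff_even.1 h).two_dvd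
  exact no_invol_commute hM U hne ⟨hu, rfl⟩ hjp hinv hj1 (i := (i : G)) (by rw [Subgroup.orderOf_coe, hi])
    (Subgroup.mem_centralizer_singleton_iff.1 i.2)

end Cfsg.Agent.Invol.Bender.Cor
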